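import Cfsg.Agent.H0.PG2
set_option maxRecDepth 100000
set_option Elab.async false
set_option linter.unusedSectionVars false
namespace H0.MS62
open H0 BN 
noncomputable def n0 : Net := (Net.cons (nat_lit 16) (nat_lit 0x22c5) (Net.cons (nat_lit 8) (nat_lit 0x4800de) (Net.cons (nat_lit 4) (nat_lit 0xe000202) (Net.cons (nat_lit 2) (nat_lit 0x20223030) (Net.cons (nat_lit 1) (nat_lit 0x1041040) (Net.cons (nat_lit 2) (nat_lit 0x20000) (Net.cons (nat_lit 4) (nat_lit 0xa000202) (Net.cons (nat_lit 8) (nat_lit 0x480000) (Net.cons (nat_lit 16) (nat_lit 0x22c4) Net.nil)))))))))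
noncomputable def n1 : Net := (Net.cons (nat_lit 16) (nat_lit 0xf497) (Net.cons (nat_lit 8) (nat_lit 0x9b00ef) (Net.cons (nat_lit 4) (nat_lit 0x30b0204) (Net.cons (nat_lit 2) (nat_lit 0x10300112) (Net.cons (nat_lit 1) (nat_lit 0x51444501) (Net.cons (nat_lit 2) (nat_lit 0x20000) (Net.cons (nat_lit 4) (nat_lit 0x40c0804) (Net.cons (nat_lit 8) (nat_lit 0x5400e0) (Net.cons (nat_lit 16) (nat_lit 0xfe32) Net.nil)))))))))
noncomputable def n2 : Net := (Net.cons (nat_lit 16) (nat_lit 0x1cd) (Net.cons (nat_lit 8) (nat_lit 0x1f00ab) (Net.cons (nat_lit 4) (nat_lit 0x408030b) (Net.cons (nat_lit 2) (nat_lit 0x10022302) (Net.cons (nat_lit 1) (nat_lit 0x1454115) (Net.cons (nat_lit 2) (nat_lit 0x2000000) (Net.cons (nat_lit 4) (nat_lit 0x402040c) (Net.cons (nat_lit 8) (nat_lit 0x100064) (Net.cons (nat_lit 16) (nat_lit 0xb68) Net.nil)))))))))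
noncomputable def n3 : Net := (Net.cons (nat_lit 16) (nat_lit 0x8ec) (Net.cons (nat_lit 8) (nat_lit 0x20040) (Net.cons (nat_lit 4) (nat_lit 0x4080e) (Net.cons (nat_lit 2) (nat_lit 0x2300010) (Net.cons (nat_lit 1) (nat_lit 0x1510004) (Net.cons (nat_lit 2) (nat_lit 0x2000000) (Net.cons (nat_lit 4) (nat_lit 0x4000c) (Net.cons (nat_lit 8) (nat_lit 0x20040) (Net.cons (nat_lit 16) (nat_lit 0x8a4) Net.nil)))))))))
noncomputable def n4 : Net := (Net.cons (nat_lit 16) (nat_lit 0x9c4e) (Net.cons (nat_lit 8) (nat_lit 0x1400d6) (Net.cons (nat_lit 4) (nat_lit 0x70c0808) (Net.cons (nat_lit 2) (nat_lit 0x30211120) (Net.cons (nat_lit 1) (nat_lit 0x40141440) (Net.cons (nat_lit 2) (nat_lit 0x20220000) (Net.cons (nat_lit 4) (nat_lit 0x60c020c) (Net.cons (nat_lit 8) (nat_lit 0x880098) (Net.cons (nat_lit 16) (nat_lit 0x949e) Net.nil)))))))))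
noncomputable def n5 : Net := (Net.cons (nat_lit 16) (nat_lit 0xcd9e) (Net.cons (nat_lit 8) (nat_lit 0x90002e) (Net.cons (nat_lit 4) (nat_lit 0x80c030e) (Net.cons (nat_lit 2) (nat_lit 0x11010320) (Net.cons (nat_lit 1) (nat_lit 0x41010150) (Net.cons (nat_lit 2) (nat_lit 0x20000) (Net.cons (nat_lit 4) (nat_lit 0x80c0200) (Net.cons (nat_lit 8) (nat_lit 0x1c003c) (Net.cons (nat_lit 16) (nat_lit 0xcc5a) Net.nil)))))))))
noncomputable def n6 : Net := (Net.cons (nat_lit 8) (nat_lit 0x48009c) (Net.cons (nat_lit 4) (nat_lit 0x4020e0c) (Net.cons (nat_lit 2) (nat_lit 0x2223200) (Net.cons (nat_lit 1) (nat_lit 0x100154) (Net.cons (nat_lit 2) (nat_lit 0x200200) (Net.cons (nat_lit 4) (nat_lit 0x20e00) (Net.cons (nat_lit 8) (nat_lit 0x48009c) Net.nil)))))))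
noncomputable def n7 : Net := (Net.cons (nat_lit 16) (nat_lit 0x7efc) (Net.cons (nat_lit 8) (nat_lit 0x6100fc) (Net.cons (nat_lit 4) (nat_lit 0x50c0f00) (Net.cons (nat_lit 2) (nat_lit 0x21033300) (Net.cons (nat_lit 1) (nat_lit 0x41511004) (Net.cons (nat_lit 2) (nat_lit 0x20022000) (Net.cons (nat_lit 4) (nat_lit 0x4060800) (Net.cons (nat_lit 8) (nat_lit 0x2000f0) (Net.cons (nat_lit 16) (nat_lit 0x7fbc) Net.nil)))))))))
noncomputable def n8 : Net := (Net.cons (nat_lit 16) (nat_lit 0x7fbc) (Net.cons (nat_lit 8) (nat_lit 0x7e00ec) (Net.cons (nat_lit 4) (nat_lit 0xe010c0c) (Net.cons (nat_lit 2) (nat_lit 0x3120310) (Net.cons (nat_lit 1) (nat_lit 0x54444040) (Net.cons (nat_lit 2) (nat_lit 0x2020000) (Net.cons (nat_lit 4) (nat_lit 0x8060e0c) (Net.cons (nat_lit 8) (nat_lit 0x1800e0) (Net.cons (nat_lit 16) (nat_lit 0x7efc) Net.nil)))))))))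
noncomputable def n9 : Net := (Net.cons (nat_lit 16) (nat_lit 0x200) (Net.cons (nat_lit 8) (nat_lit 0x20000) (Net.cons (nat_lit 4) (nat_lit 0x40400) (Net.cons (nat_lit 2) (nat_lit 0x1202100) (Net.cons (nat_lit 1) (nat_lit 0x411010) (Net.cons (nat_lit 2) (nat_lit 0x202000) (Net.cons (nat_lit 4) (nat_lit 0x40400) (Net.cons (nat_lit 8) (nat_lit 0x20000) (Net.cons (nat_lit 16) (nat_lit 0x200) Net.nil)))))))))
noncomputable def n10 : Net := (Net.cons (nat_lit 16) (nat_lit 0xe9c0) (Net.cons (nat_lit 8) (nat_lit 0x940080) (Net.cons (nat_lit 4) (nat_lit 0x80408) (Net.cons (nat_lit 2) (nat_lit 0x30021010) (Net.cons (nat_lit 1) (nat_lit 0x15410140) (Net.cons (nat_lit 2) (nat_lit 0x20020200) (Net.cons (nat_lit 4) (nat_lit 0x6000c08) (Net.cons (nat_lit 8) (nat_lit 0x1e0080) (Net.cons (nat_lit 16) (nat_lit 0xea90) Net.nil)))))))))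
noncomputable def n11 : Net := (Net.cons (nat_lit 16) (nat_lit 0xea90) (Net.cons (nat_lit 8) (nat_lit 0x1e0080) (Net.cons (nat_lit 4) (nat_lit 0x6000c08) (Net.cons (nat_lit 2) (nat_lit 0x10021230) (Net.cons (nat_lit 1) (nat_lit 0x45410110) (Net.cons (nat_lit 2) (nat_lit 0x20020) (Net.cons (nat_lit 4) (nat_lit 0x80408) (Net.cons (nat_lit 8) (nat_lit 0x940080) (Net.cons (nat_lit 16) (nat_lit 0xe9c0) Net.nil)))))))))
noncomputable def n12 : Net := (Net.cons (nat_lit 16) (nat_lit 0x8000) (Net.cons (nat_lit 8) (nat_lit 0x800000) (Net.cons (nat_lit 4) (nat_lit 0x80400) (Net.cons (nat_lit 2) (nat_lit 0x2020220) (Net.cons (nat_lit 1) (nat_lit 0x4100000) (Net.cons (nat_lit 2) (nat_lit 0x2000000) (Net.cons (nat_lit 4) (nat_lit 0x80000) (Net.cons (nat_lit 8) (nat_lit 0x800000) (Net.cons (nat_lit 16) (nat_lit 0x8000) Net.nil)))))))))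
noncomputable def n13 : Net := (Net.cons (nat_lit 8) (nat_lit 0x800000) (Net.cons (nat_lit 4) (nat_lit 0xc000808) (Net.cons (nat_lit 2) (nat_lit 0x2203230) (Net.cons (nat_lit 1) (nat_lit 0x41450450) (Net.cons (nat_lit 2) (nat_lit 0x2200200) (Net.cons (nat_lit 4) (nat_lit 0xc000808) (Net.cons (nat_lit 8) (nat_lit 0x800000) Net.nil)))))))
noncomputable def n14 : Net := (Net.cons (nat_lit 4) (nat_lit 0x800) (Net.cons (nat_lit 2) (nat_lit 0x203020) (Net.cons (nat_lit 1) (nat_lit 0x4415040) (Net.cons (nat_lit 2) (nat_lit 0x200020) (Net.cons (nat_lit 4) (nat_lit 0x800) Net.nil)))))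
noncomputable def n15 : Net := (Net.cons (nat_lit 16) (nat_lit 0x1cd) (Net.cons (nat_lit 8) (nat_lit 0x1f00ab) (Net.cons (nat_lit 4) (nat_lit 0x408030b) (Net.cons (nat_lit 2) (nat_lit 0x10022302) (Net.cons (nat_lit 1) (nat_lit 0x1454115) (Net.cons (nat_lit 2) (nat_lit 0x2000000) (Net.cons (nat_lit 4) (nat_lit 0x402040c) (Net.cons (nat_lit 8) (nat_lit 0x100064) (Net.cons (nat_lit 16) (nat_lit 0xb68) Net.nil)))))))))
def B : List (List ℕ) := [[0, 0], [1, 2], [2, 1], [3, 3], [4, 5], [5, 4], [6, 6], [7, 8], [8, 7], [9, 9], [10, 11], [11, 10], [12, 12], [13, 13], [14, 14], [12, 13, 12, 13, 12, 14], [12, 13, 12, 13, 12, 13, 12, 13, 12, 13, 12, 13], [12, 13, 12, 13, 12, 13, 12, 13, 12, 13, 12, 13], [13, 14, 13, 14], [10, 10, 10, 10], [10, 9, 11, 12], [9, 10, 9, 11, 11, 9, 11, 9, 13], [9, 10, 9, 10, 9, 10, 9, 10, 9, 10], [9, 10, 9, 11, 9, 10, 9, 11, 9, 10, 9, 11], [9, 11, 9, 11, 9, 11,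 9, 11, 9, 11], [11, 14, 10, 12], [10, 14, 9, 12, 13], [7, 7, 7, 7, 7, 7], [6, 7, 7, 7, 6, 9], [8, 6, 7, 6, 8, 11], [6, 7, 6, 7, 6, 7, 6, 7, 6, 7, 6, 7, 6, 7, 6, 7], [6, 7, 6, 8, 6, 7, 6, 8, 6, 7, 6, 8, 6, 7, 6, 8, 6, 7, 6, 8], [6, 8, 6, 8, 6, 8, 6, 8, 6, 8, 6, 8, 6, 8, 6, 8], [6, 14, 6, 14], [8, 14, 7, 14, 13], [8, 9, 7, 13, 9, 13], [6, 11, 8, 12, 13, 12], [7, 13, 8, 11, 13, 9], [8, 12, 7, 10, 14, 11], [4, 4, 4, 4, 4, 4, 4, 4, 4, 4, 4, 4], [5, 3, 4, 3, 5, 3, 4, 6], [5, 5, 3, 5, 5, 3, 5, 8], [3, 4, 3, 4, 3, 4, 3, 4, 3, 4, 3, 4], [3, 4, 3, 5, 3, 4, 3, 5, 3, 4, 3, 5, 3, 4, 3, 5, 3, 4, 3, 5], [3, 5, 3, 5, 3, 5, 3, 5, 3, 5, 3, 5], [5, 11, 5, 11], [3, 10, 3, 11], [3, 4, 3, 6, 10], [4, 7, 5, 10, 7, 11], [4, 13, 5, 12, 6, 12], [5, 6, 4, 10, 6, 11], [3, 14, 13, 3, 14, 13], [4, 6, 5, 7, 3, 8], [3, 7, 7, 7, 3, 7, 12, 8], [3, 12, 6, 8, 3, 6, 7, 9], [1, 1, 1, 1, 1, 1, 1], [2, 0, 2, 0, 1,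 1, 3], [0, 2, 2, 2, 0, 2, 2, 0, 5], [0, 1, 0, 1, 0, 1, 0, 1, 0, 1, 0, 1, 0, 1, 0, 1, 0, 1], [0, 1, 0, 2, 0, 1, 0, 2], [0, 2, 0, 2, 0, 2, 0, 2, 0, 2, 0, 2, 0, 2, 0, 2, 0, 2], [0, 12, 0, 4, 9, 5], [1, 14, 2, 6, 12, 6], [1, 10, 0, 11, 6, 12, 4], [2, 9, 1, 7, 5, 6, 4], [0, 10, 1, 5, 7, 7, 14, 5], [2, 8, 1, 12, 13, 7, 3, 9], [1, 13, 2, 13, 5, 3, 4, 13], [0, 6, 0, 4, 9, 13, 9, 5], [0, 4, 0, 2, 13, 4, 11, 6], [0, 3, 9, 3, 0, 6, 12, 6], [0, 5, 12, 4, 0, 5, 12, 4], [0, 2, 12, 1, 0, 7, 14, 8], [0, 3, 14, 3, 0, 3, 14, 3], [0, 3, 13, 3, 0, 3, 13, 3], [0, 1, 7, 0, 10, 13, 9, 7, 5], [2, 14, 1, 0, 9, 12, 8, 6, 4], [0, 7, 1, 0, 13, 11, 7, 12, 5]]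
def inv (x : ℕ) : ℕ := [0, 2, 1, 3, 5, 4, 6, 8, 7, 9, 11, 10, 12, 13, 14].getD x 0
noncomputable def nl : List Net := [n0, n1, n2, n3, n4, n5, n6, n7, n8, n9, n10, n11, n12, n13, n14, n15]
theorem nl_ok : allL (Net.ok (nat_lit 32)) nl = true := by decide +kernel
noncomputable def R : Rep := mkRep (nat_lit 5) (nat_lit 32) nl (by decide +kernel) nl_ok
def defs : List (List ℕ) := [[2]]
theorem R_ge : ∀ x, 15 + defs.length ≤ x → R.p x = 1 := fun _ hx => mkRep_ge hx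
def ngSt : List (List (ℕ × List ℕ) × List ℕ × ℕ × ℕ) := [([(0, [])], [0], 9, 2), ([(1, [])], [1], 9, 7), ([(2, [])], [2], 1, 7), ([(2, [])], [7], 5, 6), ([(4, [])], [8], 1, 6), ([(4, [])], [9], 5, 2), ([(6, [])], [12], 3, 2), ([(6, [])], [14], 3, 2), ([(4, [])], [10], 5, 4), ([(9, [])], [11], 1, 4), ([(2, [])], [3], 7, 2), ([(11, [])], [6], 5, 2), ([(2, [])], [13], 7, 2), ([(0, []), (0, [])], [4], 7, 12), ([(14, [])], [5], 1, 12)]
def ngR : List (List ℕ) := ngRels inv ngSt [[15]]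
def xR : List (List ℕ) := [wpow [15] 7]
theorem c0 : relsW R 0 R.lg ((B.drop 0).take 78) = true := by decide +kernel
theorem c1 : defsChk R defs 15 = true := by decide +kernel
theorem c2 : Model.fixW R [] [[0], [1]] = true := by decide +kernel
theorem c3 : Model.growW R [[0], [1]] [0, 1, 0, 1, 1, 0, 1, 1, 0, 1] (Nat.pow 2 0) (ival 0 28) = true := by decide +kernel
theorem c4 : Model.fixW R [0] [[3], [4]] = true := by decide +kernel
theorem c5 : Model.growW R [[3], [4]] [0, 1, 0, 1, 0, 1, 1, 1, 0, 1, 1] (Nat.pow 2 1) (ival 1 27) = true := by decide +kernel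
theorem c6 : Model.fixW R [1, 0] [[6], [7]] = true := by decide +kernel
theorem c7 : Model.growW R [[6], [7]] [0, 1, 1, 0, 1, 0, 1, 0] (Nat.pow 2 2) (ival 2 16) = true := by decide +kernel
theorem c8 : Model.fixW R [2, 1, 0] [[9], [10]] = true := by decide +kernel
theorem c9 : Model.growW R [[9], [10]] [0, 1, 1, 0, 1] (Nat.pow 2 8) (ival 8 10) = true := by decide +kernel
theorem c10 : Model.fixW R [8, 2, 1, 0] [[12], [13]] = true := by decide +kernel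
theorem c11 : Model.growW R [[12], [13]] [0, 1, 0, 1] (Nat.pow 2 9) (ival 9 6) = true := by decide +kernel
theorem c12 : Model.fixW R [9, 8, 2, 1, 0] [[14]] = true := by decide +kernel
theorem c13 : Model.growW R [[14]] [0] (Nat.pow 2 5) (ival 5 2) = true := by decide +kernel
theorem c14 : Model.growW R [[0], [1]] [0, 1, 0, 1, 1, 0, 1, 1, 0, 1] (Nat.pow 2 0) (ival 0 28) = true := by decide +kernel
theorem c15 : Model.invW R [[0], [1], [2], [3], [4], [5], [6], [7], [8], [9], [10], [11], [12], [13], [14]] 0 28 = true := by decide +kernel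
theorem c16 : Model.fixW R [0] [[3], [4]] = true := by decide +kernel
theorem c17 : Model.growW R [[3], [4]] [0, 1, 0, 1, 1, 0, 1, 0, 1, 1, 1] (Nat.pow 2 11) (ival 1 27) = true := by decide +kernel
theorem c18 : mapsW R [1] (Nat.pow 2 0) (Nat.pow 2 11) = true := by decide +kernel
theorem c19 : Model.growW R [[1], [3], [4]] [0, 0, 1, 0, 2, 2, 0, 0] (Nat.pow 2 0) (ival 0 28) = true := by decide +kernel
theorem c20 : relsW R 0 R.lg ((ngR.drop 0).take 30) = true := by decide +kernel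
theorem c21 : relsW R 0 R.lg ((xR.drop 0).take 1) = true := by decide +kernel
end H0.MS62
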